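import Groth.Agent.ComodLib.Rosenlicht
import Groth.Agent.ComodLib.Unitriangular
import Groth.Agent.ComodLib.Reductive
import Groth.Agent.GrpSchLib.TensorDomain
import Groth.Agent.QRepLib.Naive
import Groth.Agent.MultTypeLib.Artin
import Groth.Agent.UnipExt.Main
import Mathlib.RingTheory.Bialgebra.TensorProduct
import Mathlib.RingTheory.HopfAlgebra.TensorProduct

/-!
# A connected smooth unipotent group has only constant invertible functions
-/

universe u v

open TensorProduct

namespace Groth.Agent.UnipConst

open ComodLib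

variable {k : Type u} [Field k] {C : Type u} [CommRing C]

section Idem

variable [Algebra k C]

/-- No new idempotents after a finite free extension, in the presence of a rational point. -/
theorem idempotent_eq_zero (ε : C →ₐ[k] k) (hconn : ∀ e : C, IsIdempotentElem e → e = 0 ∨ e = 1)
    {L : Type u} [CommRing L] [Algebra k L] [Module.Finite k L] [Module.Free k L]
    (E : C ⊗[k] L) (hE : IsIdempotentElem E)
    (h0 : Algebra.TensorProduct.map ε (AlgHom.id k L) E = 0) : E = 0 := by
  classical
  let b := Module.Free.chooseBasis k L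
  let bC := b.baseChange C
  let M := Algebra.leftMulMatrix bC (1 - E)
  have hu : IsIdempotentElem (1 - E) := hE.one_sub
  have hM : M * M = M := by rw [← map_mul, hu.eq]
  have hψ : ∀ z : C ⊗[k] L, ∀ i, ε (bC.repr z i) =
      b.repr (Algebra.TensorProduct.lid k L (Algebra.TensorProduct.map ε (AlgHom.id k L) z)) i := by
    intro z i
    induction z using TensorProduct.induction_on with
    | zero => simp
    | tmul c l => simp [bC, mul_comm]
    | add p q hp hq => simp [hp, hq]
  have hmap : M.map ε = 1 := by
    ext i j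
    show ε (Algebra.leftMulMatrix bC (1 - E) i j) = _
    rw [Algebra.leftMulMatrix_eq_repr_mul, hψ, map_mul, map_mul, map_sub, map_sub, h0]
    simp [bC, Matrix.one_apply, Finsupp.single_apply, eq_comm]
  have hdet : M.det = 1 := by
    have he : IsIdempotentElem M.det := by
      show M.det * M.det = M.det
      rw [← Matrix.det_mul, hM]
    refine (hconn _ he).resolve_left fun h => ?_
    have h1 : ε M.det = (M.map ε).det := (ε : C →+* k).map_det M
    rw [h, hmap, Matrix.det_one, map_zero] at h1
    exact zero_ne_one h1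
  have hunit : IsUnit M := (Matrix.isUnit_iff_isUnit_det M).mpr (hdet ▸ isUnit_one)
  have hone : M = 1 := hunit.mul_left_cancel (hM.trans (mul_one M).symm)
  have := Algebra.leftMulMatrix_injective bC (hone.trans (map_one (Algebra.leftMulMatrix bC)).symm)
  simpa using this

/-- A connected algebra with a rational point stays connected after an algebraic extension of the field. -/
theorem idempotents_baseChange (ε : C →ₐ[k] k) (hconn : ∀ e : C, IsIdempotentElem e → e = 0 ∨ e = 1)
    (K : Type u) [Field K] [Algebra k K] [Algebra.IsAlgebraic k K] (E : K ⊗[k] C) (hE : IsIdempotentElem E) :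
    E = 0 ∨ E = 1 := by
  obtain ⟨A', hfg, E₀, rfl⟩ := GrpSchLib.exists_fg_mem_range_rTensor E
  haveI : Algebra.FiniteType k A' := (Subalgebra.fg_iff_finiteType A').mp hfg
  haveI : Algebra.IsIntegral k A' := Algebra.IsIntegral.of_injective A'.val Subtype.val_injective
  haveI : Module.Finite k A' := Algebra.IsIntegral.finite
  let f := Algebra.TensorProduct.map A'.val (AlgHom.id k C)
  have hinj : Function.Injective f :=
    Module.Flat.rTensor_preserves_injective_linearMap A'.val.toLinearMap Subtype.val_injective
  have hE₀ : IsIdempotentElem E₀ := hinj (by rw [map_mul]; exact hE.eq)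
  let E₁ : C ⊗[k] A' := Algebra.TensorProduct.comm k A' C E₀
  have hE₁ : IsIdempotentElem E₁ := hE₀.map (Algebra.TensorProduct.comm k A' C)
  let p : C ⊗[k] A' →ₐ[k] A' :=
    (Algebra.TensorProduct.lid k A').toAlgHom.comp (Algebra.TensorProduct.map ε (AlgHom.id k A'))
  haveI : IsDomain A' := inferInstance
  have key : ∀ E : C ⊗[k] A', IsIdempotentElem E → p E = 0 → E = 0 := fun E hE h =>
    idempotent_eq_zero ε hconn E hE ((Algebra.TensorProduct.lid k A').injective (h.trans (map_zero _).symm))
  rcases IsIdempotentElem.iff_eq_zero_or_one.mp (hE₁.map p) with h | h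
  · left
    rw [(Algebra.TensorProduct.comm k A' C).injective ((key E₁ hE₁ h).trans (map_zero _).symm), map_zero]
  · right
    have h1 := key (1 - E₁) hE₁.one_sub (by rw [map_sub, map_one, h, sub_self])
    rw [(Algebra.TensorProduct.comm k A' C).injective ((sub_eq_zero.mp h1).symm.trans (map_one _).symm), map_one]

end Idem

variable [HopfAlgebra k C]

/-- A smooth connected group stays integral after any algebraically closed extension of the field. -/
theorem isDomain_baseChange [Algebra.FiniteType k C] [Algebra.FormallySmooth k C]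
    (hconn : ∀ e : C, IsIdempotentElem e → e = 0 ∨ e = 1)
    (K : Type u) [Field K] [IsAlgClosed K] [Algebra k K] : IsDomain (K ⊗[k] C) := by
  let k' := AlgebraicClosure k
  letI : Algebra k' K := (IsAlgClosed.lift (R := k) (S := k') (M := K)).toRingHom.toAlgebra
  haveI : IsScalarTower k k' K := IsScalarTower.of_algebraMap_eq fun c =>
    ((IsAlgClosed.lift (R := k) (S := k') (M := K)).commutes c).symm
  haveI : Algebra.FinitePresentation k C := Algebra.FinitePresentation.of_finiteType.mp inferInstance
  haveI : Algebra.Smooth k C := ⟨inferInstance, inferInstance⟩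
  haveI : _root_.IsReduced (k' ⊗[k] C) := QRepLib.isReduced_of_smooth_algebra k' _
  haveI : IsDomain (k' ⊗[k] C) := ComodLib.isDomain_of_connected k'
    (idempotents_baseChange (Bialgebra.counitAlgHom k C) hconn k')
  haveI : IsDomain (K ⊗[k'] (k' ⊗[k] C)) := GrpSchLib.isDomain_tensor_of_isAlgClosed
  exact (Algebra.TensorProduct.cancelBaseChange k k' K K C).symm.toRingEquiv.toMulEquiv.isDomain (B := K ⊗[k'] (k' ⊗[k] C))

variable (K : Type u) [Field K] [Algebra k K]

/-- Extension of a functional. -/
noncomputable def extF (φ : C →ₗ[k] k) : K ⊗[k] C →ₗ[K] K :=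
  (AlgebraTensorModule.rid k K K).toLinearMap ∘ₗ φ.baseChange K

theorem actF_extF (φ : C →ₗ[k] k) (x : K ⊗[k] C) :
    actF (extF K φ) x = (actF φ : C →ₗ[k] C).baseChange K x := by
  induction x using TensorProduct.induction_on with
  | zero => simp
  | add p q hp hq => simp only [map_add, hp, hq]
  | tmul c a =>
    rw [LinearMap.baseChange_tmul, actF_apply, actF_apply]
    show slice (extF K φ) (Coalgebra.comul (R := K) (c ⊗ₜ[k] a)) = c ⊗ₜ[k] slice φ (Coalgebra.comul (R := k) a)
    rw [TensorProduct.comul_tmul, CommSemiring.comul_apply]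
    generalize Coalgebra.comul (R := k) a = z
    induction z using TensorProduct.induction_on with
    | zero => simp
    | add p q hp hq => simp only [map_add, TensorProduct.tmul_add, hp, hq]
    | tmul p q =>
      rw [AlgebraTensorModule.tensorTensorTensorComm_tmul, slice_tmul, slice_tmul, extF, LinearMap.comp_apply,
        LinearMap.baseChange_tmul, LinearEquiv.coe_coe, AlgebraTensorModule.rid_tmul, TensorProduct.tmul_smul,
        TensorProduct.smul_tmul', TensorProduct.smul_tmul']
      simp

theorem slice_mem {A : Type u} [AddCommGroup A] [Module k A] {V : Type u} [AddCommGroup V] [Module k V]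
    {W : Submodule k V} (ψ : A →ₗ[k] k) {x : V ⊗[k] A} {u : V} {o : A} (ho : ψ o = 0)
    (h : x - u ⊗ₜ[k] o ∈ LinearMap.range (W.subtype.rTensor A)) : slice ψ x ∈ W := by
  obtain ⟨z, hz⟩ := h
  rw [show x = W.subtype.rTensor A z + u ⊗ₜ[k] o from by rw [hz, sub_add_cancel], map_add, slice_tmul, ho, zero_smul,
    add_zero, slice_rTensor]
  exact Submodule.coe_mem _

theorem locallyNilpotent (hU : HopfRep.IsUnipotent k C) (ψ : C →ₗ[k] k) (hψ : ψ 1 = 0) (c : C) :
    ∃ n : ℕ, ((actF ψ : C →ₗ[k] C) ^ n) c = 0 := by
  obtain ⟨U, hUf, hcU, hU'⟩ := exists_finite_subcomod_mem (k := k) (C := C) (V := C) c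
  letI : HopfRep.Comod k C U := ComodSub.Comod.restr (HopfRep.Comod.regular k C) U hU'
  obtain ⟨m, F, -, h0, hm, -, hstep⟩ := isUnipotent_iff_filtration.mp hU U hUf
  have hdown : ∀ i, ∀ u ∈ F (i + 1), actF ψ u ∈ F i := fun i u hu => by
    exact slice_mem (W := F i) (x := HopfRep.Comod.coact (k := k) (A := C) u) (u := u) (o := (1 : C)) ψ hψ (hstep i u hu)
  have hpow : ∀ j i, ∀ u ∈ F (i + j), ((actF ψ : U →ₗ[k] U) ^ j) u ∈ F i := fun j => by
    induction j with
    | zero => intro i u hu; simpa using hu
    | succ j ih =>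
      intro i u hu
      rw [pow_succ', Module.End.mul_apply]
      exact hdown i _ (ih (i + 1) u (by rwa [add_right_comm]))
  have hzero : ((actF ψ : U →ₗ[k] U) ^ m) ⟨c, hcU⟩ = 0 := by
    have h := hpow m 0 ⟨c, hcU⟩ (by rw [zero_add, hm]; trivial)
    rwa [h0, Submodule.mem_bot] at h
  have hcomm : ∀ (j : ℕ) (u : U), (((actF ψ : U →ₗ[k] U) ^ j) u : C) = ((actF ψ : C →ₗ[k] C) ^ j) (u : C) := fun j => by
    induction j with
    | zero => simp
    | succ j ih =>
      intro u
      rw [pow_succ', Module.End.mul_apply, pow_succ', Module.End.mul_apply, ← ih]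
      exact comodHom_actF (f := U.subtype) (LinearMap.ext fun w => (ComodSub.restr_coact_coe _ U hU' w).symm) ψ _
  exact ⟨m, by rw [← hcomm m ⟨c, hcU⟩, hzero]; rfl⟩

theorem groupLike_baseChange_eq_one (hU : HopfRep.IsUnipotent k C) {χ : K ⊗[k] C} (hχ : IsGroupLikeElem K χ) :
    χ = 1 := by
  classical
  let b := Module.Free.chooseBasis k C
  let π : C →ₗ[k] C := LinearMap.id - (Algebra.linearMap k C) ∘ₗ Coalgebra.counit
  have hπ1 : π 1 = 0 := by simp [π]
  have hzero : ∀ ψ : C →ₗ[k] k, ψ 1 = 0 → extF K ψ χ = 0 := by
    intro ψ hψ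
    have hTχ : actF (extF K ψ) χ = extF K ψ χ • χ := by
      rw [actF_apply]
      show slice _ (Coalgebra.comul (R := K) χ) = _
      rw [hχ.comul_eq_tmul_self, slice_tmul]
    have hiter : ∀ n : ℕ, (((actF ψ : C →ₗ[k] C) ^ n).baseChange K) χ = (extF K ψ χ) ^ n • χ := fun n => by
      induction n with
      | zero => simp [Module.End.one_eq_id]
      | succ n ih =>
        rw [pow_succ', Module.End.mul_eq_comp, LinearMap.baseChange_comp, LinearMap.comp_apply, ih, map_smul,
          ← actF_extF, hTχ, smul_smul, pow_succ]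
    have hev : ∀ z : K ⊗[k] C, ∃ n : ℕ, ∀ m ≥ n, (((actF ψ : C →ₗ[k] C) ^ m).baseChange K) z = 0 := by
      intro z
      induction z using TensorProduct.induction_on with
      | zero => exact ⟨0, fun m _ => map_zero _⟩
      | tmul a c =>
        obtain ⟨n, hn⟩ := locallyNilpotent hU ψ hψ c
        refine ⟨n, fun m hm => ?_⟩
        rw [LinearMap.baseChange_tmul, ← Nat.sub_add_cancel hm, pow_add, Module.End.mul_apply, hn, map_zero,
          TensorProduct.tmul_zero]
      | add p q hp hq =>
        obtain ⟨n, hn⟩ := hp
        obtain ⟨n', hn'⟩ := hq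
        exact ⟨max n n', fun m hm => by rw [map_add, hn m (le_trans (le_max_left _ _) hm),
          hn' m (le_trans (le_max_right _ _) hm), add_zero]⟩
    obtain ⟨n, hn⟩ := hev χ
    have h := (hiter n).symm.trans (hn n le_rfl)
    exact eq_zero_of_pow_eq_zero ((smul_eq_zero.mp h).resolve_right hχ.ne_zero)
  have hcoord : ∀ (z : K ⊗[k] C) i, (b.baseChange K).repr (π.baseChange K z) i = extF K (b.coord i ∘ₗ π) z := by
    intro z i
    induction z using TensorProduct.induction_on with
    | zero => simp
    | tmul a c => simp [extF]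
    | add p q hp hq => simp [hp, hq]
  have hπχ : π.baseChange K χ = 0 := (b.baseChange K).repr.injective <| by
    ext i
    rw [hcoord, hzero _ (by simp [hπ1]), map_zero, Finsupp.zero_apply]
  have hπK : ∀ z : K ⊗[k] C, π.baseChange K z = z - Coalgebra.counit (R := K) z • 1 := by
    intro z
    induction z using TensorProduct.induction_on with
    | zero => simp
    | tmul a c =>
      simp [π, TensorProduct.tmul_sub, TensorProduct.counit_tmul, Algebra.TensorProduct.one_def,
        TensorProduct.smul_tmul', Algebra.algebraMap_eq_smul_one, TensorProduct.tmul_smul]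
    | add p q hp hq => simp only [map_add, hp, hq, add_smul]; abel
  rw [hπK, hχ.counit_eq_one, one_smul, sub_eq_zero] at hπχ
  exact hπχ

/-- The invertible functions on a smooth connected unipotent group are the constants. -/
theorem unit_baseChange_const [IsAlgClosed K] [Algebra.FiniteType k C] [Algebra.FormallySmooth k C]
    (hconn : ∀ e : C, IsIdempotentElem e → e = 0 ∨ e = 1) (hU : HopfRep.IsUnipotent k C)
    (a : (K ⊗[k] C)ˣ) : (a : K ⊗[k] C) = algebraMap K _ (Coalgebra.counit (R := K) (a : K ⊗[k] C)) := by
  let D := K ⊗[k] C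
  haveI : IsDomain D := isDomain_baseChange hconn K
  haveI : GLin.IsCoactAlg K D D := ⟨Bialgebra.comul_one, fun f g => Bialgebra.comul_mul f g⟩
  obtain ⟨χ, hχ, hco⟩ := ComodLib.exists_character (k := K) (A := D) (B := D) (a := (a : D)) a.ne_zero fun g => by
    let α : D →ₐ[K] D := (Algebra.TensorProduct.rid K K D).toAlgHom.comp
      ((Algebra.TensorProduct.map (AlgHom.id K D) g).comp (Bialgebra.comulAlgHom K D))
    have hα : ∀ y, HopfRep.Comod.act K D D g y = α y := fun y => by
      show slice g.toLinearMap (Coalgebra.comul (R := K) y) = α y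
      simp only [α, AlgHom.comp_apply, Bialgebra.comulAlgHom_apply]
      induction Coalgebra.comul (R := K) y using TensorProduct.induction_on with
      | zero => simp
      | tmul p q => simp
      | add p q hp hq => simp only [map_add, hp, hq]
    exact ⟨Units.map (α : D →* D) a * a⁻¹, by rw [hα, Units.val_mul, mul_assoc, Units.inv_mul, mul_one]; rfl⟩
  obtain rfl : χ = 1 := groupLike_baseChange_eq_one K hU hχ
  have h := congrArg (TensorProduct.lid K D) (Coalgebra.rTensor_counit_comul (R := K) (a : D))
  rw [TensorProduct.lid_tmul, one_smul, show Coalgebra.comul (R := K) (a : D) = (a : D) ⊗ₜ[K] (1 : D) from hco,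
    LinearMap.rTensor_tmul, TensorProduct.lid_tmul] at h
  rw [Algebra.algebraMap_eq_smul_one]
  exact h.symm

end Groth.Agent.UnipConst
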